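import Groth.Prelude.Def_GLin
import Groth.Agent.ComodLib.Basic
import Mathlib.RingTheory.Bialgebra.MonoidAlgebra

/-!
# Weight components for coactions of a diagonalisable group
-/

set_option autoImplicit false

universe u v w

open TensorProduct

noncomputable section

namespace Groth.Agent.TorusWeights

open Groth.Agent.ComodLib

variable (k : Type u) [Field k] {Λ : Type v} [AddCommGroup Λ]

/-- The coefficient form. -/
def cf (m : Λ) : AddMonoidAlgebra k Λ →ₗ[k] k :=
  (Finsupp.lapply m).comp (AddMonoidAlgebra.coeffLinearEquiv k).toLinearMap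

theorem cf_single [DecidableEq Λ] (m a : Λ) (c : k) :
    cf k m (AddMonoidAlgebra.single a c) = if a = m then c else 0 := by
  simp [cf, Finsupp.single_apply]

theorem exists_sum {V : Type w} [AddCommGroup V] [Module k V] (x : V ⊗[k] AddMonoidAlgebra k Λ) :
    ∃ s : Finset Λ, ∀ t : Finset Λ, s ⊆ t → x = ∑ m ∈ t, slice (cf k m) x ⊗ₜ[k] AddMonoidAlgebra.single m (1 : k) := by
  classical
  induction x using TensorProduct.induction_on with
  | zero => exact ⟨∅, fun t _ => by simp⟩
  | tmul p q =>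
    refine ⟨q.coeff.support, fun t ht => ?_⟩
    simp only [slice_tmul, TensorProduct.smul_tmul, AddMonoidAlgebra.smul_single', _root_.mul_one, ← TensorProduct.tmul_sum]
    refine congrArg (p ⊗ₜ[k] ·) ?_
    refine AddMonoidAlgebra.coeff_inj.1 (Finsupp.ext fun a => ?_)
    rw [AddMonoidAlgebra.coeff_sum, Finsupp.finsetSum_apply]
    simp only [AddMonoidAlgebra.coeff_single, Finsupp.single_apply, Finset.sum_ite_eq']
    split_ifs with h
    · rfl
    · exact Finsupp.notMem_support_iff.1 fun h' => h (ht h')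
  | add p q hp hq =>
    obtain ⟨s, hs⟩ := hp
    obtain ⟨s', hs'⟩ := hq
    refine ⟨s ∪ s', fun t ht => ?_⟩
    rw [Finset.union_subset_iff] at ht
    conv_lhs => rw [hs t ht.1, hs' t ht.2, ← Finset.sum_add_distrib]
    exact Finset.sum_congr rfl fun m _ => by rw [map_add, TensorProduct.add_tmul]

variable {R : Type w} [CommRing R] [Algebra k R] [HopfRep.Comod k (AddMonoidAlgebra k Λ) R]

/-- The weight component. -/
def wc (m : Λ) : R →ₗ[k] R := actF (cf k m)

theorem coact_wc (m : Λ) (f : R) :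
    HopfRep.Comod.coact (k := k) (A := AddMonoidAlgebra k Λ) (wc k m f) =
      wc k m f ⊗ₜ[k] AddMonoidAlgebra.single m (1 : k) := by
  classical
  refine ext_of_forall_slice_eq fun φ => ?_
  rw [slice_tmul]
  show actF φ (actF (cf k m) f) = φ (AddMonoidAlgebra.single m 1) • actF (cf k m) f
  rw [show actF φ (actF (cf k m) f) = actF (WithConv.toConv φ * WithConv.toConv (cf k m)).ofConv f from
    (actF_convMul (WithConv.toConv φ) (WithConv.toConv (cf k m)) f).symm, ← LinearMap.smul_apply, ← actF_smul]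
  congr 2
  refine (AddMonoidAlgebra.basis Λ k).ext fun a => ?_
  rw [AddMonoidAlgebra.basis_apply, LinearMap.convMul_apply]
  simp only [AddMonoidAlgebra.comul_single, CommSemiring.comul_apply, TensorProduct.map_tmul, LinearMap.smul_apply, smul_eq_mul]
  simp only [LinearMap.mul'_apply, TensorProduct.map_tmul, cf_single, AddMonoidAlgebra.lsingle_apply]
  split
  · next h => subst h; rfl
  · simp

theorem wc_mem (m : Λ) (f : R) :
    wc k m f ∈ HopfRep.eigenspace k (AddMonoidAlgebra k Λ) R (AddMonoidAlgebra.single m 1) := coact_wc k m f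

theorem exists_expand (f : R) :
    ∃ s : Finset Λ, (0 : Λ) ∈ s ∧ f = ∑ m ∈ s, wc k m f ∧
      HopfRep.Comod.coact (k := k) (A := AddMonoidAlgebra k Λ) f =
        ∑ m ∈ s, wc k m f ⊗ₜ[k] AddMonoidAlgebra.single m (1 : k) := by
  classical
  obtain ⟨s, hs⟩ := exists_sum k (HopfRep.Comod.coact (k := k) (A := AddMonoidAlgebra k Λ) f)
  have e := hs (insert 0 s) (Finset.subset_insert _ _)
  refine ⟨insert 0 s, Finset.mem_insert_self _ _, ?_, e⟩
  conv_lhs => rw [← actF_counit (C := AddMonoidAlgebra k Λ) (k := k) f, actF_apply, e, map_sum]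
  refine Finset.sum_congr rfl fun m _ => ?_
  rw [slice_tmul, show Coalgebra.counit (R := k) (AddMonoidAlgebra.single m (1 : k)) = 1 by simp, one_smul]
  rfl

variable {k}

theorem wc_of_mem [DecidableEq Λ] {v : R} {a : Λ}
    (hv : v ∈ HopfRep.eigenspace k (AddMonoidAlgebra k Λ) R (AddMonoidAlgebra.single a 1)) (m : Λ) :
    wc k m v = if a = m then v else 0 := by
  have hv' : HopfRep.Comod.coact (k := k) (A := AddMonoidAlgebra k Λ) v = v ⊗ₜ[k] AddMonoidAlgebra.single a 1 := hv
  rw [wc, actF_apply, hv', slice_tmul, cf_single]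
  split_ifs <;> simp

variable [GLin.IsCoactAlg k (AddMonoidAlgebra k Λ) R]

theorem mem_invariants_iff (v : R) : v ∈ GLin.invariants k (AddMonoidAlgebra k Λ) R ↔
    v ∈ HopfRep.eigenspace k (AddMonoidAlgebra k Λ) R (AddMonoidAlgebra.single 0 1) := Iff.rfl

theorem mul_mem {v v' : R} {a b : Λ}
    (hv : v ∈ HopfRep.eigenspace k (AddMonoidAlgebra k Λ) R (AddMonoidAlgebra.single a 1))
    (hv' : v' ∈ HopfRep.eigenspace k (AddMonoidAlgebra k Λ) R (AddMonoidAlgebra.single b 1)) :
    v * v' ∈ HopfRep.eigenspace k (AddMonoidAlgebra k Λ) R (AddMonoidAlgebra.single (a + b) 1) := by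
  show HopfRep.Comod.coact (k := k) (A := AddMonoidAlgebra k Λ) (v * v') = _
  rw [GLin.IsCoactAlg.coact_mul, show HopfRep.Comod.coact (k := k) (A := AddMonoidAlgebra k Λ) v = _ from hv,
    show HopfRep.Comod.coact (k := k) (A := AddMonoidAlgebra k Λ) v' = _ from hv', Algebra.TensorProduct.tmul_mul_tmul,
    AddMonoidAlgebra.single_mul_single, _root_.mul_one]

variable (k Λ R) in
/-- The ideal of the non-zero weights. -/
def nzIdeal : Ideal R :=
  Ideal.span {f : R | ∃ w : Λ, w ≠ 0 ∧ f ∈ HopfRep.eigenspace k (AddMonoidAlgebra k Λ) R (AddMonoidAlgebra.single w 1)}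

theorem wc_mem_nz (m : Λ) (hm : m ≠ 0) (f : R) : wc k m f ∈ nzIdeal k Λ R :=
  Ideal.subset_span ⟨m, hm, wc_mem k m f⟩

theorem bijective_invariants_quotient
    (hpos : ∀ w : Λ, HopfRep.eigenspace k (AddMonoidAlgebra k Λ) R (AddMonoidAlgebra.single w 1) ≠ ⊥ →
      HopfRep.eigenspace k (AddMonoidAlgebra k Λ) R (AddMonoidAlgebra.single (-w) 1) ≠ ⊥ → w = 0) :
    Function.Bijective
      ((Ideal.Quotient.mkₐ k (nzIdeal k Λ R)).comp (GLin.invariants k (AddMonoidAlgebra k Λ) R).val) := by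
  classical
  constructor
  · rw [injective_iff_map_eq_zero]
    rintro ⟨f, hf⟩ h0
    have hfI : f ∈ nzIdeal k Λ R := Ideal.Quotient.eq_zero_iff_mem.1 h0
    refine Subtype.ext ?_
    show f = 0
    have h1 : wc k (0 : Λ) f = f := by rw [wc_of_mem ((mem_invariants_iff f).1 hf) 0, if_pos rfl]
    rw [← h1]
    suffices ∀ g ∈ nzIdeal k Λ R, wc k (0 : Λ) g = 0 from this f hfI
    intro g hg
    rw [nzIdeal, ← Ideal.submodule_span_eq, Submodule.mem_span_set'] at hg
    obtain ⟨n, c, s, rfl⟩ := hg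
    rw [map_sum]
    refine Finset.sum_eq_zero fun j _ => ?_
    obtain ⟨w, hw, hs⟩ := (s j).2
    obtain ⟨t, -, hc, -⟩ := exists_expand k (Λ := Λ) (c j)
    rw [hc, smul_eq_mul, Finset.sum_mul, map_sum]
    refine Finset.sum_eq_zero fun m _ => ?_
    rw [wc_of_mem (mul_mem (wc_mem k m (c j)) hs) 0]
    split_ifs with h
    · by_contra hne
      have hm : m = -w := eq_neg_of_add_eq_zero_left h
      refine hw (hpos w (Submodule.ne_bot_iff _ |>.2 ⟨_, hs, right_ne_zero_of_mul hne⟩)
        (Submodule.ne_bot_iff _ |>.2 ⟨_, hm ▸ wc_mem k m (c j), left_ne_zero_of_mul hne⟩))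
    · rfl
  · intro z
    obtain ⟨f, rfl⟩ := Ideal.Quotient.mk_surjective z
    obtain ⟨t, h0, hf, -⟩ := exists_expand k (Λ := Λ) f
    refine ⟨⟨wc k (0 : Λ) f, wc_mem k 0 f⟩, ?_⟩
    show Ideal.Quotient.mk _ (wc k (0 : Λ) f) = Ideal.Quotient.mk _ f
    refine Eq.trans ?_ (congrArg (Ideal.Quotient.mk (nzIdeal k Λ R)) hf).symm
    rw [map_sum, Finset.sum_eq_single_of_mem 0 h0 fun m _ hm => Ideal.Quotient.eq_zero_iff_mem.2
      (wc_mem_nz m hm f)]

theorem orbitHom_eq (x : R →ₐ[k] k) (f : R) :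
    ∃ s : Finset Λ, (0 : Λ) ∈ s ∧ f = ∑ m ∈ s, wc k m f ∧
      GLin.orbitHom k (AddMonoidAlgebra k Λ) x f = ∑ m ∈ s, AddMonoidAlgebra.single m (x (wc k m f)) := by
  obtain ⟨s, h0, hs, hc⟩ := exists_expand k (Λ := Λ) f
  refine ⟨s, h0, hs, ?_⟩
  show (Algebra.TensorProduct.lid k _).toAlgHom ((Algebra.TensorProduct.map x (AlgHom.id k _))
    (HopfRep.Comod.coact (k := k) (A := AddMonoidAlgebra k Λ) f)) = _
  rw [hc, map_sum, map_sum]
  refine Finset.sum_congr rfl fun m _ => ?_
  simp [AddMonoidAlgebra.smul_single']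

theorem isClosedOrbit_iff_isFixedPt
    (hpos : ∀ w : Λ, HopfRep.eigenspace k (AddMonoidAlgebra k Λ) R (AddMonoidAlgebra.single w 1) ≠ ⊥ →
      HopfRep.eigenspace k (AddMonoidAlgebra k Λ) R (AddMonoidAlgebra.single (-w) 1) ≠ ⊥ → w = 0)
    (x : R →ₐ[k] k) :
    GLin.IsClosedOrbit k (AddMonoidAlgebra k Λ) x ↔ GLin.IsFixedPt k (AddMonoidAlgebra k Λ) x := by
  classical
  constructor
  · intro hcl
    let e := AlgEquiv.ofBijective _ (bijective_invariants_quotient hpos)
    let x₀ : R →ₐ[k] k :=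
      (x.comp (GLin.invariants k (AddMonoidAlgebra k Λ) R).val).comp (e.symm.toAlgHom.comp (Ideal.Quotient.mkₐ k _))
    have hx₀ : ∀ f, x₀ f = x (wc k (0 : Λ) f) := fun f => by
      show x (e.symm (Ideal.Quotient.mk _ f)).1 = _
      rw [show e.symm (Ideal.Quotient.mk _ f) = ⟨wc k (0 : Λ) f, wc_mem k 0 f⟩ from by
        rw [AlgEquiv.symm_apply_eq]
        obtain ⟨t, h0, hf, -⟩ := exists_expand k (Λ := Λ) f
        show Ideal.Quotient.mk _ f = Ideal.Quotient.mk _ (wc k (0 : Λ) f)
        refine (congrArg (Ideal.Quotient.mk (nzIdeal k Λ R)) hf).trans ?_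
        rw [map_sum, Finset.sum_eq_single_of_mem 0 h0 fun m _ hm => Ideal.Quotient.eq_zero_iff_mem.2
          (wc_mem_nz m hm f)]]
    let φ := (GLin.orbitHom k (AddMonoidAlgebra k Λ) x).toRingHom
    have hker : RingHom.ker φ ≤ RingHom.ker x₀.toRingHom := fun f hf => by
      obtain ⟨s, h0, -, hs⟩ := orbitHom_eq (Λ := Λ) x f
      have : cf k 0 (GLin.orbitHom k (AddMonoidAlgebra k Λ) x f) = 0 := by
        rw [show GLin.orbitHom k (AddMonoidAlgebra k Λ) x f = 0 from hf, map_zero]
      rw [hs, map_sum] at this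
      simp only [cf_single, Finset.sum_ite_eq', if_pos h0] at this
      exact (hx₀ f).trans this
    let p₀ : PrimeSpectrum R := ⟨RingHom.ker x₀.toRingHom, RingHom.ker_isPrime _⟩
    have hp₀ : p₀ ∈ closure (Set.range (PrimeSpectrum.comap φ)) := by
      rw [PrimeSpectrum.closure_range_comap]
      exact hker
    rw [hcl.closure_eq] at hp₀
    obtain ⟨p, hp⟩ := hp₀
    refine AlgHom.ext fun f => ?_
    obtain ⟨s, h0, hsum, hs⟩ := orbitHom_eq (Λ := Λ) x f
    have hz : ∀ m ∈ s, m ≠ 0 → x (wc k m f) = 0 := fun m _ hm => by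
      by_contra hne
      have hI : wc k m f ∈ RingHom.ker x₀.toRingHom := by
        show x₀ (wc k m f) = 0
        rw [hx₀, wc_of_mem (wc_mem k m f) 0, if_neg hm, map_zero]
      have hq : φ (wc k m f) ∈ p.asIdeal := (congrArg PrimeSpectrum.asIdeal hp).ge hI
      refine p.2.ne_top (Ideal.eq_top_of_isUnit_mem _ hq ?_)
      show IsUnit (GLin.orbitHom k (AddMonoidAlgebra k Λ) x (wc k m f))
      rw [show GLin.orbitHom k (AddMonoidAlgebra k Λ) x (wc k m f) = AddMonoidAlgebra.single m (x (wc k m f)) by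
        show (Algebra.TensorProduct.lid k _).toAlgHom ((Algebra.TensorProduct.map x (AlgHom.id k _))
          (HopfRep.Comod.coact (k := k) (A := AddMonoidAlgebra k Λ) (wc k m f))) = _
        rw [coact_wc]
        simp [AddMonoidAlgebra.smul_single']]
      refine ⟨⟨AddMonoidAlgebra.single m (x (wc k m f)), AddMonoidAlgebra.single (-m) (x (wc k m f))⁻¹, ?_, ?_⟩, rfl⟩ <;>
        simp [AddMonoidAlgebra.single_mul_single, hne, AddMonoidAlgebra.one_def]
    rw [hs, Finset.sum_eq_single_of_mem 0 h0 fun m hm hm0 => by rw [hz m hm hm0, AddMonoidAlgebra.single_zero]]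
    show _ = algebraMap k _ (x f)
    conv_rhs => rw [hsum, map_sum, Finset.sum_eq_single_of_mem 0 h0 hz]
    rfl
  · intro hfix
    show IsClosed _
    rw [show (GLin.orbitHom k (AddMonoidAlgebra k Λ) x).toRingHom = (algebraMap k (AddMonoidAlgebra k Λ)).comp x.toRingHom from
      RingHom.ext fun f => congrArg (fun ψ : R →ₐ[k] AddMonoidAlgebra k Λ => ψ f) hfix]
    have hr : Set.range (PrimeSpectrum.comap ((algebraMap k (AddMonoidAlgebra k Λ)).comp x.toRingHom)) =
        {(⟨RingHom.ker x.toRingHom, RingHom.ker_isPrime _⟩ : PrimeSpectrum R)} := by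
      refine Set.Subset.antisymm ?_ ?_
      · rintro _ ⟨p, rfl⟩
        refine PrimeSpectrum.ext ?_
        show p.asIdeal.comap ((algebraMap k _).comp x.toRingHom) = _
        rw [← Ideal.comap_comap, (Ideal.eq_bot_or_top (p.asIdeal.comap (algebraMap k _))).resolve_right
          (Ideal.IsPrime.ne_top inferInstance)]
        rfl
      · haveI : Nontrivial (AddMonoidAlgebra k Λ) := inferInstance
        rintro _ rfl
        obtain ⟨M, hM⟩ := Ideal.exists_maximal (AddMonoidAlgebra k Λ)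
        refine ⟨⟨M, hM.isPrime⟩, PrimeSpectrum.ext ?_⟩
        show M.comap ((algebraMap k _).comp x.toRingHom) = _
        rw [← Ideal.comap_comap, (Ideal.eq_bot_or_top (M.comap (algebraMap k _))).resolve_right
          (Ideal.IsPrime.ne_top inferInstance)]
        rfl
    rw [hr]
    exact (PrimeSpectrum.isClosed_singleton_iff_isMaximal _).2
      (RingHom.ker_isMaximal_of_surjective _ fun c => ⟨algebraMap k R c, x.commutes c⟩)

end Groth.Agent.TorusWeights
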